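import Groth.Prelude.Def_Cyc
import Groth.Agent.Lib.CycBasic.DimFun
import Mathlib.RingTheory.Localization.LocalizationLocalization
import Mathlib.RingTheory.OrderOfVanishing.Noetherian
import Mathlib.AlgebraicGeometry.AffineScheme

/-!
Local rings along a specialization, and the order of a rational function.
-/

set_option autoImplicit false
universe u

open CategoryTheory AlgebraicGeometry IsLocalRing

namespace GrothLib.CycDiv

variable {X : Scheme.{u}} {x ξ : X}

/-- The prime of `ξ` in the local ring at `x`. -/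
noncomputable abbrev primeOf (h : ξ ⤳ x) : Ideal (X.presheaf.stalk x) := RingHom.ker (Cyc.specMap x ξ h)

theorem mem_primeOf_iff (h : ξ ⤳ x) (a : X.presheaf.stalk x) :
    a ∈ primeOf h ↔ (X.presheaf.stalkSpecializes h).hom a ∈ maximalIdeal (X.presheaf.stalk ξ) := by
  show X.residue ξ ((X.presheaf.stalkSpecializes h).hom a) = 0 ↔ _
  exact residue_eq_zero_iff _

instance (h : ξ ⤳ x) : (primeOf h).IsPrime := RingHom.ker_isPrime _

theorem isLocalization_stalkSpecializes (h : ξ ⤳ x) :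
    letI := (X.presheaf.stalkSpecializes h).hom.toAlgebra
    IsLocalization.AtPrime (X.presheaf.stalk ξ) (primeOf h) := by
  obtain ⟨U, hU, hxU, -⟩ := exists_isAffineOpen_mem_and_subset (x := x) (U := ⊤) trivial
  have hξU : ξ ∈ U := h.mem_open U.2 hxU
  letI : Algebra Γ(X, U) (X.presheaf.stalk x) := (X.presheaf.germ U x hxU).hom.toAlgebra
  letI : Algebra Γ(X, U) (X.presheaf.stalk ξ) := (X.presheaf.germ U ξ hξU).hom.toAlgebra
  haveI hx : IsLocalization.AtPrime (X.presheaf.stalk x) (hU.primeIdealOf ⟨x, hxU⟩).asIdeal :=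
    hU.isLocalization_stalk ⟨x, hxU⟩
  haveI hξ : IsLocalization.AtPrime (X.presheaf.stalk ξ) (hU.primeIdealOf ⟨ξ, hξU⟩).asIdeal :=
    hU.isLocalization_stalk ⟨ξ, hξU⟩
  letI := (X.presheaf.stalkSpecializes h).hom.toAlgebra
  haveI : IsScalarTower Γ(X, U) (X.presheaf.stalk x) (X.presheaf.stalk ξ) :=
    IsScalarTower.of_algebraMap_eq' (by
      show (X.presheaf.germ U ξ hξU).hom = _
      rw [← TopCat.Presheaf.germ_stalkSpecializes X.presheaf hxU h]
      rfl)
  have hle : (hU.primeIdealOf ⟨x, hxU⟩).asIdeal.primeCompl ≤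
      (hU.primeIdealOf ⟨ξ, hξU⟩).asIdeal.primeCompl := by
    intro a ha
    have h1 : IsUnit (algebraMap Γ(X, U) (X.presheaf.stalk x) a) :=
      IsLocalization.map_units (M := (hU.primeIdealOf ⟨x, hxU⟩).asIdeal.primeCompl) (X.presheaf.stalk x) ⟨a, ha⟩
    have h2 := h1.map (algebraMap (X.presheaf.stalk x) (X.presheaf.stalk ξ))
    rw [← IsScalarTower.algebraMap_apply] at h2
    exact (IsLocalization.AtPrime.isUnit_to_map_iff (X.presheaf.stalk ξ) _ _).1 h2
  haveI := IsLocalization.isLocalization_of_submonoid_le (X.presheaf.stalk x) (X.presheaf.stalk ξ)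
    (hU.primeIdealOf ⟨x, hxU⟩).asIdeal.primeCompl (hU.primeIdealOf ⟨ξ, hξU⟩).asIdeal.primeCompl hle
  refine IsLocalization.of_le ((hU.primeIdealOf ⟨ξ, hξU⟩).asIdeal.primeCompl.map
    (algebraMap Γ(X, U) (X.presheaf.stalk x))) (primeOf h).primeCompl ?_ ?_
  · rintro _ ⟨a, ha, rfl⟩ hmem
    have h2 : IsUnit (algebraMap Γ(X, U) (X.presheaf.stalk ξ) a) :=
      IsLocalization.map_units (M := (hU.primeIdealOf ⟨ξ, hξU⟩).asIdeal.primeCompl) (X.presheaf.stalk ξ) ⟨a, ha⟩
    rw [IsScalarTower.algebraMap_apply Γ(X, U) (X.presheaf.stalk x)] at h2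
    exact ((mem_primeOf_iff h _).1 hmem) h2
  · intro a ha
    by_contra hu
    exact ha ((mem_primeOf_iff h a).2 hu)

/-- Every element of `κ(ξ)` is a fraction of germs at `x`. -/
theorem exists_frac (h : ξ ⤳ x) (g : X.residueField ξ) :
    ∃ a b : X.presheaf.stalk x, b ∉ primeOf h ∧ g * Cyc.specMap x ξ h b = Cyc.specMap x ξ h a := by
  letI := (X.presheaf.stalkSpecializes h).hom.toAlgebra
  haveI := isLocalization_stalkSpecializes h
  obtain ⟨c, rfl⟩ := X.residue_surjective ξ g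
  obtain ⟨⟨a, b⟩, hab⟩ := IsLocalization.surj (primeOf h).primeCompl c
  refine ⟨a, b, b.2, ?_⟩
  show X.residue ξ c * X.residue ξ (algebraMap _ (X.presheaf.stalk ξ) (b : X.presheaf.stalk x)) =
    X.residue ξ (algebraMap _ (X.presheaf.stalk ξ) a)
  rw [← map_mul, hab]

theorem algebraMap_mk (h : ξ ⤳ x) (a : X.presheaf.stalk x) :
    algebraMap (Cyc.LocQuot x ξ h) (X.residueField ξ) (Ideal.Quotient.mk _ a) = Cyc.specMap x ξ h a := rfl

instance (h : ξ ⤳ x) : IsDomain (Cyc.LocQuot x ξ h) := Ideal.Quotient.isDomain (primeOf h)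

theorem injective_algebraMap_locQuot (h : ξ ⤳ x) :
    Function.Injective (algebraMap (Cyc.LocQuot x ξ h) (X.residueField ξ)) :=
  RingHom.kerLift_injective (Cyc.specMap x ξ h)

theorem isFractionRing_locQuot (h : ξ ⤳ x) : IsFractionRing (Cyc.LocQuot x ξ h) (X.residueField ξ) := by
  haveI : FaithfulSMul (Cyc.LocQuot x ξ h) (X.residueField ξ) :=
    (faithfulSMul_iff_algebraMap_injective _ _).2 (injective_algebraMap_locQuot h)
  refine IsFractionRing.of_field _ _ fun g => ?_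
  obtain ⟨a, b, hb, hab⟩ := exists_frac h g
  refine ⟨Ideal.Quotient.mk _ a, Ideal.Quotient.mk _ b, ?_⟩
  rw [algebraMap_mk, algebraMap_mk, eq_div_iff hb]
  exact hab

/-- The order of a fraction as a difference of lengths. -/
theorem ordAt_eq_sub [IsLocallyNoetherian X] {δ : X → ℤ} (hδ : Cyc.IsDimFun X δ) (h : ξ ⤳ x)
    (hd : δ x + 1 = δ ξ) {g : X.residueField ξ} {a b : X.presheaf.stalk x} (ha : a ∉ primeOf h)
    (hb : b ∉ primeOf h) (hg : g * Cyc.specMap x ξ h b = Cyc.specMap x ξ h a) :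
    Cyc.ordAt x ξ h g =
      ((Ring.ord (Cyc.LocQuot x ξ h) (Ideal.Quotient.mk _ a)).toNat : ℤ) -
        ((Ring.ord (Cyc.LocQuot x ξ h) (Ideal.Quotient.mk _ b)).toNat : ℤ) := by
  have hfrac := isFractionRing_locQuot h
  have hN : IsNoetherianRing (Cyc.LocQuot x ξ h) :=
    isNoetherianRing_of_surjective _ _ (Ideal.Quotient.mk _) Ideal.Quotient.mk_surjective
  have hK : Ring.KrullDimLE 1 (Cyc.LocQuot x ξ h) := Ring.krullDimLE_iff.2 (by
    rw [GrothLib.CycBasic.ringKrullDim_locQuot hδ x ξ h, show (δ ξ - δ x).toNat = 1 from by omega])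
  have ha' : Ideal.Quotient.mk (primeOf h) a ≠ 0 := fun e => ha (Ideal.Quotient.eq_zero_iff_mem.1 e)
  have hb' : Ideal.Quotient.mk (primeOf h) b ≠ 0 := fun e => hb (Ideal.Quotient.eq_zero_iff_mem.1 e)
  have hgdiv : g = algebraMap (Cyc.LocQuot x ξ h) (X.residueField ξ) (Ideal.Quotient.mk _ a) /
      algebraMap (Cyc.LocQuot x ξ h) (X.residueField ξ) (Ideal.Quotient.mk _ b) := by
    rw [algebraMap_mk, algebraMap_mk, eq_div_iff hb]
    exact hg
  have hma := mem_nonZeroDivisors_of_ne_zero ha'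
  have hmb := mem_nonZeroDivisors_of_ne_zero hb'
  rw [Cyc.ordAt, CycAlg.ordFrac, dif_pos ⟨hN, hK, inferInstance, hfrac⟩, hgdiv, map_div₀,
    Ring.ordFrac_eq_ord _ ha', Ring.ordFrac_eq_ord _ hb',
    Ring.ordMonoidWithZeroHom_eq_coe _ hma (ENat.natCast_toNat (Ring.ord_ne_top hma)).symm,
    Ring.ordMonoidWithZeroHom_eq_coe _ hmb (ENat.natCast_toNat (Ring.ord_ne_top hmb)).symm, ← WithZero.coe_div]
  rfl

/-- `g` is regular and invertible at `x`, or `x` is not of codimension one: order zero. -/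
theorem ordAt_eq_zero_of_isUnit [IsLocallyNoetherian X] {δ : X → ℤ} (hδ : Cyc.IsDimFun X δ) (h : ξ ⤳ x)
    (hd : δ x + 1 = δ ξ) {g : X.residueField ξ} {a : X.presheaf.stalk x} (ha : IsUnit a)
    (hg : g = Cyc.specMap x ξ h a) : Cyc.ordAt x ξ h g = 0 := by
  have h1 : ∀ {c : X.presheaf.stalk x}, IsUnit c → c ∉ primeOf h := fun hc hm =>
    (inferInstance : (primeOf h).IsPrime).ne_top (Ideal.eq_top_of_isUnit_mem _ hm hc)
  rw [ordAt_eq_sub hδ h hd (h1 ha) (h1 isUnit_one) (by rw [map_one, mul_one, hg]),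
    Ring.ord_of_isUnit (ha.map _), Ring.ord_of_isUnit (isUnit_one.map _)]
  rfl

end GrothLib.CycDiv
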