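import Groth.Agent.Lib.CycDiv.Flat

/-!
Flat pullback respects rational equivalence.
-/

set_option autoImplicit false
universe u

open CategoryTheory AlgebraicGeometry GrothLib.CycFlat

namespace GrothLib.CycDiv

variable {X Y : Scheme.{u}} (f : X ⟶ Y)

theorem shift_of_hasRelDim [LocallyOfFiniteType f] {δX : X → ℤ} {δY : Y → ℤ} {r : ℕ}
    (hr : Cyc.HasRelDim f r) (hδ : Cyc.DeltaCompat f δX δY) (x : X) (hx : MaxFib f x) :
    δX x = δY (f x) + r := by
  obtain ⟨n, hn, hnx⟩ := hδ x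
  have h := (hasRelDim_iff f r).1 hr x hx
  have : (n : Cardinal.{u}) = r := hn.symm.trans h
  have : n = r := by exact_mod_cast this
  rw [hnx, this]

theorem finite_maxFib_mem [IsLocallyNoetherian X] {U : X.Opens} (hU : IsCompact (U : Set X)) (y : Y) :
    {z : X | z ∈ U ∧ MaxFib f z ∧ f z = y}.Finite := by
  haveI : CompactSpace U := isCompact_iff_compactSpace.mp hU
  haveI : IsLocallyNoetherian (U : Scheme.{u}) := inferInstance
  haveI : IsNoetherian (U : Scheme.{u}) := ⟨⟩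
  refine ((GrothLib.CycLimit.finite_maxFib (U.ι ≫ f) y).image U.ι).subset ?_
  rintro z ⟨hzU, hm, hz⟩
  obtain ⟨w, rfl⟩ : z ∈ Set.range U.ι := by rw [Scheme.Opens.range_ι]; exact hzU
  exact ⟨w, ⟨hz, fun v hv hs => U.ι.isEmbedding.injective (hm _ hv (hs.map U.ι.continuous))⟩, rfl⟩

theorem exists_nhds_compact (x : X) : ∃ U : X.Opens, x ∈ U ∧ IsCompact (U : Set X) := by
  obtain ⟨U, hU, hx, -⟩ := exists_isAffineOpen_mem_and_subset (x := x) (U := ⊤) trivial
  exact ⟨U, hx, hU.isCompact⟩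

theorem mem_of_closure_inter {U : Set X} (hU : IsOpen U) {ξ : X} (h : (closure {ξ} ∩ U).Nonempty) :
    ξ ∈ U := by
  obtain ⟨z, hz, hzU⟩ := h
  exact (specializes_iff_mem_closure.2 hz).mem_open hU hzU

open Classical in
theorem ratEquivZero_pullFun [IsLocallyNoetherian X] [IsLocallyNoetherian Y] [Flat f]
    {δX : X → ℤ} {δY : Y → ℤ} (hδX : Cyc.IsDimFun X δX) (hδY : Cyc.IsDimFun Y δY) {c : ℤ}
    (hc : ∀ x, MaxFib f x → δX x = δY (f x) + c) (k : ℤ) (α : AlgebraicCycle Y ℤ)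
    (h : Cyc.RatEquivZero δY k α) (α' : AlgebraicCycle X ℤ) (hα' : ⇑α' = Cyc.pullFun f δX δY c ⇑α) :
    Cyc.RatEquivZero δX (k + c) α' := by
  obtain ⟨ι, η, g, hη, hg, hloc, hsum⟩ := h
  have hI : ∀ U : X.Opens, IsCompact (U : Set X) →
      {i | (closure {η i} ∩ f '' (U : Set X)).Nonempty}.Finite := by
    intro U hU
    choose V hVo hVy hVf using hloc
    obtain ⟨t, ht⟩ := (hU.image f.continuous).elim_finite_subcover V hVo
      fun y _ => Set.mem_iUnion.2 ⟨y, hVy y⟩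
    refine (t.finite_toSet.biUnion fun y _ => hVf y).subset ?_
    rintro i ⟨z, hz, hzU⟩
    obtain ⟨y, hy, hzy⟩ := Set.mem_iUnion₂.1 (ht hzU)
    exact Set.mem_biUnion hy ⟨z, hz, hzy⟩
  let ι' := Σ i : ι, Σ ξ : {ξ : X // MaxFib f ξ ∧ f ξ = η i}, Fin (fibLength f ξ.1).toNat
  have hsmall : ∀ U : X.Opens, IsCompact (U : Set X) → {j : ι' | j.2.1.1 ∈ U}.Finite := by
    intro U hU
    have h1 : ∀ i, {q : Σ ξ : {ξ : X // MaxFib f ξ ∧ f ξ = η i}, Fin (fibLength f ξ.1).toNat |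
        q.1.1 ∈ U}.Finite := fun i => by
      have h1 : {ξ : {ξ : X // MaxFib f ξ ∧ f ξ = η i} | ξ.1 ∈ U}.Finite :=
        ((finite_maxFib_mem f hU (η i)).preimage Subtype.val_injective.injOn).subset
          fun ξ hξ => ⟨hξ, ξ.2⟩
      exact (h1.toFinset.sigma fun _ => Finset.univ).finite_toSet.subset fun q hq =>
        Finset.mem_coe.2 (Finset.mem_sigma.2 ⟨h1.mem_toFinset.2 hq, Finset.mem_univ _⟩)
    refine ((hI U hU).toFinset.sigma fun i => (h1 i).toFinset).finite_toSet.subset ?_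
    rintro ⟨i, ξ, m⟩ hj
    exact Finset.mem_coe.2 (Finset.mem_sigma.2 ⟨(hI U hU).mem_toFinset.2
      ⟨η i, subset_closure rfl, ξ.1, hj, ξ.2.2⟩, (h1 i).mem_toFinset.2 hj⟩)
  refine ⟨ι', fun j => j.2.1.1, fun j => pullVal f (g j.1) j.2.1.1 j.2.1.2.2, fun j => ?_, fun j => ?_,
    fun x => ?_, fun x => ?_⟩
  · rw [hc _ j.2.1.2.1, j.2.1.2.2, hη j.1]
    ring
  · exact (map_ne_zero_iff _ (f.residueFieldMap j.2.1.1).hom.injective).2
      ((map_ne_zero_iff _ (Y.residueFieldCongr j.2.1.2.2.symm).hom.hom.injective).2 (hg j.1))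
  · obtain ⟨U, hxU, hU⟩ := exists_nhds_compact x
    exact ⟨U, U.2, hxU, (hsmall U hU).subset fun j hj => mem_of_closure_inter U.2 hj⟩
  · obtain ⟨U, hxU, hU⟩ := exists_nhds_compact x
    let S : Finset ι := (hI U hU).toFinset
    have hS : ∀ i, Cyc.divFun δY (η i) (g i) (f x) ≠ 0 → i ∈ S := fun i hi => by
      refine (hI U hU).mem_toFinset.2 ⟨f x, ?_, Set.mem_image_of_mem f hxU⟩
      by_contra hne
      exact hi (dif_neg fun h => hne (specializes_iff_mem_closure.1 h.1))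
    have hsumx : ∀ i, ∑ᶠ ξ : {ξ : X // MaxFib f ξ ∧ f ξ = η i},
        ((fibLength f ξ.1).toNat : ℤ) * Cyc.divFun δX ξ.1 (pullVal f (g i) ξ.1 ξ.2.2) x =
        ∑ᶠ q : (Σ ξ : {ξ : X // MaxFib f ξ ∧ f ξ = η i}, Fin (fibLength f ξ.1).toNat),
          Cyc.divFun δX q.1.1 (pullVal f (g i) q.1.1 q.1.2.2) x := by
      intro i
      have h1 : {ξ : {ξ : X // MaxFib f ξ ∧ f ξ = η i} | ξ.1 ∈ U}.Finite :=
        ((finite_maxFib_mem f hU (η i)).preimage Subtype.val_injective.injOn).subset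
          fun ξ hξ => ⟨hξ, ξ.2⟩
      have hsupp : ∀ ξ : {ξ : X // MaxFib f ξ ∧ f ξ = η i}, ∀ v, Cyc.divFun δX ξ.1 v x ≠ 0 → ξ.1 ∈ U :=
        fun ξ v hv => by
          by_contra hne
          exact hv (dif_neg fun h => hne (h.1.mem_open U.2 hxU))
      rw [finsum_eq_sum_of_support_subset _ (s := h1.toFinset) fun ξ hξ =>
          h1.mem_toFinset.2 (hsupp ξ _ (right_ne_zero_of_mul hξ)),
        finsum_eq_sum_of_support_subset _ (s := h1.toFinset.sigma fun _ => Finset.univ) fun q hq =>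
          Finset.mem_coe.2 (Finset.mem_sigma.2 ⟨h1.mem_toFinset.2 (hsupp q.1 _ hq), Finset.mem_univ _⟩),
        Finset.sum_sigma]
      refine Finset.sum_congr rfl fun ξ _ => ?_
      refine Eq.trans ?_ (Finset.sum_const (Cyc.divFun δX ξ.1 (pullVal f (g i) ξ.1 ξ.2.2) x)).symm
      rw [Finset.card_univ, Fintype.card_fin, nsmul_eq_mul]
    have hpull : α' x = ∑ i ∈ S, Cyc.pullFun f δX δY c (Cyc.divFun δY (η i) (g i)) x := by
      rw [hα', pullFun_apply]
      simp only [pullFun_apply]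
      split_ifs
      · rw [hsum, finsum_eq_sum_of_support_subset _ (s := S) fun i hi => hS i hi, Finset.sum_mul]
      · simp
    rw [hpull]
    have hfib : ∀ i, {q : Σ ξ : {ξ : X // MaxFib f ξ ∧ f ξ = η i}, Fin (fibLength f ξ.1).toNat |
        q.1.1 ∈ U}.Finite := fun i =>
      ((hsmall U hU).preimage (f := fun q => (⟨i, q⟩ : ι')) (fun _ _ _ _ e => eq_of_heq (Sigma.mk.inj e).2))
    have hq : ∀ (i : ι) (q : Σ ξ : {ξ : X // MaxFib f ξ ∧ f ξ = η i}, Fin (fibLength f ξ.1).toNat),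
        Cyc.divFun δX q.1.1 (pullVal f (g i) q.1.1 q.1.2.2) x ≠ 0 → q.1.1 ∈ U := fun i q hv => by
      by_contra hne
      exact hv (dif_neg fun h => hne (h.1.mem_open U.2 hxU))
    rw [finsum_eq_sum_of_support_subset _ (s := S.sigma fun i => (hfib i).toFinset) fun j hj => ?_,
      Finset.sum_sigma]
    · refine Finset.sum_congr rfl fun i _ => ?_
      rw [pullFun_divFun f hδX hδY hc (η i) (g i) (hg i) x, hsumx,
        finsum_eq_sum_of_support_subset _ (s := (hfib i).toFinset) fun q hq' =>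
          (hfib i).mem_toFinset.2 (hq i q hq')]
    · obtain ⟨i, q⟩ := j
      have hqU := hq i q hj
      exact Finset.mem_coe.2 (Finset.mem_sigma.2 ⟨(hI U hU).mem_toFinset.2
        ⟨η i, subset_closure rfl, q.1.1, hqU, q.1.2.2⟩, (hfib i).mem_toFinset.2 hqU⟩)

theorem pullFun_sub (δX : X → ℤ) (δY : Y → ℤ) (c : ℤ) (a b : Y → ℤ) :
    Cyc.pullFun f δX δY c (a - b) = Cyc.pullFun f δX δY c a - Cyc.pullFun f δX δY c b := by
  funext x
  simp only [Pi.sub_apply, pullFun_apply]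
  split_ifs <;> ring

end GrothLib.CycDiv
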