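import Groth.Agent.Lib.LengthQuotX
import Mathlib.RingTheory.OrderOfVanishing.Basic
import Mathlib.RingTheory.Flat.FaithfullyFlat.Basic
import Mathlib.RingTheory.LocalProperties.Basic
import Mathlib.RingTheory.Localization.Module
import Mathlib.Algebra.Module.LocalizedModule.Submodule
import Mathlib.RingTheory.TensorProduct.Quotient
import Mathlib.RingTheory.KrullDimension.Module

/-!
Orders of vanishing along flat local homomorphisms.
-/

set_option autoImplicit false
universe u

open IsLocalRing TensorProduct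
open scoped Pointwise

namespace GrothLib.CycDiv

theorem ord_mk {A : Type u} [CommRing A] (P : Ideal A) (a : A) :
    Ring.ord (A ⧸ P) (Ideal.Quotient.mk P a) = Module.length A (A ⧸ (P ⊔ Ideal.span {a})) := by
  have h : Ideal.span {Ideal.Quotient.mk P a} = (Ideal.span {a}).map (Ideal.Quotient.mk P) := by
    rw [Ideal.map_span, Set.image_singleton]
  rw [Ring.ord, h, ← Module.length_eq_of_surjective (S := A) (R := A ⧸ P)
    (M := (A ⧸ P) ⧸ (Ideal.span {a}).map (Ideal.Quotient.mk P)) Ideal.Quotient.mk_surjective]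
  exact (DoubleQuot.quotQuotEquivQuotSupₐ A P (Ideal.span {a})).toLinearEquiv.length_eq

/-- The length of a localization of a cyclic module, in any model of the localization. -/
theorem length_localized_quot {B : Type u} [CommRing B] (Q : Ideal B) [Q.IsPrime] (S : Type u)
    [CommRing S] [Algebra B S] [IsLocalization.AtPrime S Q] (J : Ideal B) :
    Module.length (Localization.AtPrime Q) (LocalizedModule Q.primeCompl (B ⧸ J)) =
      Module.length S (S ⧸ J.map (algebraMap B S)) := by
  let e : Localization.AtPrime Q ≃ₐ[B] S := IsLocalization.algEquiv Q.primeCompl _ _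
  letI : Algebra (Localization.AtPrime Q) S := e.toAlgHom.toRingHom.toAlgebra
  haveI : IsScalarTower B (Localization.AtPrime Q) S := IsScalarTower.of_algebraMap_eq' e.toAlgHom.comp_algebraMap.symm
  rw [← Module.length_eq_of_surjective (S := Localization.AtPrime Q) (R := S)
    (M := S ⧸ J.map (algebraMap B S)) e.surjective]
  haveI h1 : IsLocalizedModule Q.primeCompl
      (Submodule.toLocalizedQuotient' S Q.primeCompl (Algebra.linearMap B S) J) :=
    IsLocalizedModule.toLocalizedQuotient' _ _ _ _
  let e' := (IsLocalizedModule.iso Q.primeCompl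
    (Submodule.toLocalizedQuotient' S Q.primeCompl (Algebra.linearMap B S) J)).trans
    ((Submodule.quotEquivOfEq _ _ (Ideal.localized'_eq_map S Q.primeCompl J)).restrictScalars B)
  exact (LinearEquiv.extendScalarsOfIsLocalization Q.primeCompl (Localization.AtPrime Q) e').length_eq

variable {A B : Type u} [CommRing A] [CommRing B] [Algebra A B]

omit [CommRing A] in
theorem length_quot_smul_top (J : Ideal B) (b : B) :
    Module.length B ((B ⧸ J) ⧸ b • (⊤ : Submodule B (B ⧸ J))) =
      Module.length B (B ⧸ (J ⊔ Ideal.span {b})) := by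
  refine ((LinearEquiv.ofBijective (Submodule.liftQ (J ⊔ Ideal.span {b})
    ((b • (⊤ : Submodule B (B ⧸ J))).mkQ.comp (Submodule.mkQ J)) ?_) ⟨?_, ?_⟩).length_eq).symm
  · refine sup_le (fun z hz => ?_) ((Ideal.span_singleton_le_iff_mem _).2 ?_)
    · show Submodule.Quotient.mk (Submodule.Quotient.mk z) = 0
      rw [(Submodule.Quotient.mk_eq_zero J).2 hz]; rfl
    · refine (Submodule.Quotient.mk_eq_zero _).2 ⟨Submodule.Quotient.mk (1 : B), trivial, ?_⟩
      show Submodule.Quotient.mk (b * 1 : B) = Submodule.Quotient.mk b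
      rw [mul_one]
  · rw [← LinearMap.ker_eq_bot, Submodule.ker_liftQ_eq_bot]
    intro z hz
    obtain ⟨w, -, hw⟩ := (Submodule.Quotient.mk_eq_zero _).1 hz
    obtain ⟨w, rfl⟩ := Submodule.Quotient.mk_surjective _ w
    have hw' : b * w - z ∈ J := (Submodule.Quotient.eq J).1 hw
    rw [show z = -(b * w - z) + w * b by ring]
    exact add_mem (Submodule.mem_sup_left (neg_mem hw'))
      (Submodule.mem_sup_right (Ideal.mul_mem_left _ _ (Ideal.mem_span_singleton_self b)))
  · intro z
    obtain ⟨z, rfl⟩ := Submodule.Quotient.mk_surjective _ z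
    obtain ⟨z, rfl⟩ := Submodule.Quotient.mk_surjective _ z
    exact ⟨Submodule.Quotient.mk z, rfl⟩

/-- Multiplication by a regular element of `A ⧸ P` stays regular after flat base change. -/
theorem regular_quot_map [Module.Flat A B] (P : Ideal A) [P.IsPrime] {a : A} (ha : a ∉ P) :
    LinearMap.ker (LinearMap.lsmul B (B ⧸ P.map (algebraMap A B)) (algebraMap A B a)) = ⊥ := by
  let e := (Algebra.TensorProduct.quotIdealMapEquivTensorQuot B P).toLinearEquiv
  let m : (A ⧸ P) →ₗ[A] (A ⧸ P) := LinearMap.lsmul A (A ⧸ P) a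
  have hm : Function.Injective m := by
    rw [injective_iff_map_eq_zero]
    intro z hz
    obtain ⟨z, rfl⟩ := Ideal.Quotient.mk_surjective z
    have : a * z ∈ P := Ideal.Quotient.eq_zero_iff_mem.1 hz
    exact Ideal.Quotient.eq_zero_iff_mem.2 ((‹P.IsPrime›.mem_or_mem this).resolve_left ha)
  have hi := Module.Flat.lTensor_preserves_injective_linearMap (M := B) m hm
  have heq : ∀ t : B ⊗[A] (A ⧸ P), algebraMap A B a • t = m.lTensor B t := by
    intro t
    induction t using TensorProduct.induction_on with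
    | zero => simp
    | tmul b z =>
      rw [LinearMap.lTensor_tmul, TensorProduct.smul_tmul', algebraMap_smul, TensorProduct.smul_tmul]
      rfl
    | add t t' h h' => rw [smul_add, map_add, h, h']
  rw [LinearMap.ker_eq_bot']
  intro z hz
  refine e.injective (hi ?_)
  rw [map_zero, map_zero, ← heq, ← map_smul]
  exact (congrArg e hz).trans (map_zero e)

/-- **Order of vanishing under a flat local map.** -/
theorem length_mul_eq_finsum [IsLocalRing A] [IsLocalRing B] [IsNoetherianRing B]
    [IsLocalHom (algebraMap A B)] [Module.Flat A B] (P : Ideal A) [P.IsPrime] {a : A} (ha : a ∉ P)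
    (hdim : ∀ Q : PrimeSpectrum B, P.map (algebraMap A B) ≤ Q.asIdeal →
      Q.asIdeal ≠ maximalIdeal B → Q.asIdeal.comap (algebraMap A B) = P ∧
        ∀ Q' : PrimeSpectrum B, P.map (algebraMap A B) ≤ Q'.asIdeal → Q' ≤ Q → Q' = Q) :
    Module.length B (B ⧸ (P ⊔ Ideal.span {a}).map (algebraMap A B)) =
      ∑ᶠ (Q : PrimeSpectrum B) (_ : P.map (algebraMap A B) ≤ Q.asIdeal ∧ Q.asIdeal ≠ maximalIdeal B),
        Ring.ord (B ⧸ Q.asIdeal) (Ideal.Quotient.mk Q.asIdeal (algebraMap A B a)) *
          Module.length (Localization.AtPrime Q.asIdeal)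
            (LocalizedModule Q.asIdeal.primeCompl (B ⧸ P.map (algebraMap A B))) := by
  let J := P.map (algebraMap A B)
  have hsupp : ∀ Q : PrimeSpectrum B, Q ∈ Module.support B (B ⧸ J) ↔ J ≤ Q.asIdeal := fun Q => by
    rw [Module.support_eq_zeroLocus, Ideal.annihilator_quotient]
    rfl
  have h1 : Module.supportDim B (B ⧸ J) ≤ 1 := by
    show Order.krullDim (Module.support B (B ⧸ J)) ≤ 1
    refine Order.krullDim_le_one_iff.2 fun Q => ?_
    by_cases hQ : Q.1.asIdeal = maximalIdeal B
    · refine .inr fun Q' _ => ?_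
      show Q'.1.asIdeal ≤ Q.1.asIdeal
      rw [hQ]
      exact le_maximalIdeal Q'.1.isPrime.ne_top
    · refine .inl fun Q' hQ' => ?_
      rw [show Q' = Q from Subtype.ext ((hdim Q.1 ((hsupp _).1 Q.2) hQ).2 Q'.1 ((hsupp _).1 Q'.2) hQ')]
  have h0 : Module.supportDim B ((B ⧸ J) ⧸ algebraMap A B a • (⊤ : Submodule B (B ⧸ J))) ≤ 0 := by
    have : ∀ Q ∈ Module.support B ((B ⧸ J) ⧸ algebraMap A B a • (⊤ : Submodule B (B ⧸ J))),
        Q.asIdeal = maximalIdeal B := by
      intro Q hQ
      rw [Module.support_quotSMulTop] at hQ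
      by_contra hne
      refine ha ?_
      rw [← (hdim Q ((hsupp _).1 hQ.1) hne).1]
      exact (PrimeSpectrum.mem_zeroLocus _ _).1 hQ.2 rfl
    haveI : Subsingleton (Module.support B ((B ⧸ J) ⧸ algebraMap A B a • (⊤ : Submodule B (B ⧸ J)))) :=
      ⟨fun Q Q' => Subtype.ext (PrimeSpectrum.ext ((this _ Q.2).trans (this _ Q'.2).symm))⟩
    exact Order.krullDim_nonpos_of_subsingleton
  have h := GrothLib.LengthQuotX.length_quot_eq (M := B ⧸ J) (algebraMap A B a) h1 h0
  rw [regular_quot_map P ha, Module.length_bot, zero_add, length_quot_smul_top] at h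
  rw [Ideal.map_sup, Ideal.map_span, Set.image_singleton, h]
  simp only [hsupp, GrothLib.LengthQuotX.term]
  rfl

end GrothLib.CycDiv
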