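import Groth.Agent.Lib.CycDiv.RatEquiv
import Mathlib.Topology.NoetherianSpace

/-!
Principal divisors on Noetherian schemes have finite support.
-/

set_option autoImplicit false
universe u

open CategoryTheory AlgebraicGeometry GrothLib.CycFlat

namespace GrothLib.CycDiv

theorem finite_support_divFun {X : Scheme.{u}} [IsNoetherian X] {δ : X → ℤ} (hδ : Cyc.IsDimFun X δ)
    (ξ : X) {g : X.residueField ξ} (hg : g ≠ 0) : {x | Cyc.divFun δ ξ g x ≠ 0}.Finite := by
  classical
  obtain ⟨c, rfl⟩ := X.residue_surjective ξ g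
  obtain ⟨U, hξU, s, rfl⟩ := X.presheaf.germ_exist c
  have hu : IsUnit (X.presheaf.germ U ξ hξU s) := by
    by_contra h
    exact hg ((IsLocalRing.residue_eq_zero_iff _).2 h)
  have hξV : ξ ∈ X.basicOpen s := (X.mem_basicOpen _ ξ hξU).2 hu
  let Z : Set X := closure {ξ} ∩ (X.basicOpen s : Set X)ᶜ
  have hZ : IsClosed Z := isClosed_closure.inter (X.basicOpen s).2.isClosed_compl
  have hkey : ∀ x, Cyc.divFun δ ξ (X.residue ξ (X.presheaf.germ U ξ hξU s)) x ≠ 0 →
      x ∈ Z ∧ δ x + 1 = δ ξ := by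
    intro x hx
    by_cases h : ξ ⤳ x ∧ δ x + 1 = δ ξ
    swap
    · exact absurd (dif_neg h) hx
    refine ⟨⟨specializes_iff_mem_closure.1 h.1, fun hxV => hx ?_⟩, h.2⟩
    rw [Cyc.divFun, dif_pos h]
    have hxU : x ∈ U := X.basicOpen_le s hxV
    refine ordAt_eq_zero_of_isUnit hδ h.1 h.2 ((X.mem_basicOpen _ x hxU).1 hxV) ?_
    show _ = X.residue ξ ((X.presheaf.stalkSpecializes h.1).hom ((X.presheaf.germ U x hxU).hom s))
    refine congrArg (X.residue ξ).hom ?_
    exact (congr($(X.presheaf.germ_stalkSpecializes hxU h.1).hom s)).symm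
  have hfin : {x : Z | ∀ y : Z, y ⤳ x → y = x}.Finite := by
    refine Set.Finite.of_finite_image (f := fun x => closure {x})
      (TopologicalSpace.NoetherianSpace.finite_irreducibleComponents.subset ?_) ?_
    · rintro _ ⟨x, hx, rfl⟩
      haveI : QuasiSober Z := hZ.isClosedEmbedding_subtypeVal.quasiSober
      exact closure_mem_irreducibleComponents hx
    · intro a _ b hb e
      exact hb a (specializes_iff_closure_subset.2 e.ge)
  refine (hfin.image Subtype.val).subset fun x hx => ?_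
  obtain ⟨hxZ, hxd⟩ := hkey x hx
  refine ⟨⟨x, hxZ⟩, fun y hy => ?_, rfl⟩
  by_contra hne
  have hne' : (y : X) ≠ x := fun e => hne (Subtype.ext e)
  have hs : (y : X) ⤳ x := subtype_specializes_iff _ _ |>.1 hy
  have h1 := (hδ _ _ hs hne').1
  have hξy : ξ ≠ (y : X) := fun e => y.2.2 (e ▸ hξV)
  have h2 := (hδ _ _ (specializes_iff_mem_closure.2 y.2.1) hξy).1
  omega

theorem finite_support_pullFun {X Y : Scheme.{u}} [IsNoetherian X] (f : X ⟶ Y) {δX : X → ℤ} {δY : Y → ℤ}
    (hδX : Cyc.IsDimFun X δX) {c : ℤ} (hc : ∀ x, MaxFib f x → δX x = δY (f x) + c) {a : Y → ℤ}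
    (ha : {y | a y ≠ 0}.Finite) : {x | Cyc.pullFun f δX δY c a x ≠ 0}.Finite := by
  refine (ha.biUnion fun y _ => GrothLib.CycLimit.finite_maxFib f y).subset fun x hx => ?_
  rw [Set.mem_setOf_eq, pullFun_apply] at hx
  split_ifs at hx with h
  · exact Set.mem_biUnion (left_ne_zero_of_mul hx)
      ⟨rfl, (eq_add_iff_maxFib f hδX hc x).1.1 h⟩
  · exact absurd rfl hx

/-- A function of finite support as a cycle. -/
noncomputable def mkCycle {X : Scheme.{u}} (a : X → ℤ) (ha : {x | a x ≠ 0}.Finite) : AlgebraicCycle X ℤ where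
  toFun := a
  supportWithinDomain' := Set.subset_univ _
  supportLocallyFiniteWithinDomain' := fun _ _ => ⟨Set.univ, Filter.univ_mem, ha.subset fun _ hx => hx.2⟩

@[simp]
theorem coe_mkCycle {X : Scheme.{u}} (a : X → ℤ) (ha : {x | a x ≠ 0}.Finite) : ⇑(mkCycle a ha) = a := rfl

end GrothLib.CycDiv
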