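import Groth.Agent.Lib.CycDiv.Stalk
import Groth.Agent.Lib.CycDiv.Algebra
import Groth.Agent.Lib.CycFlat.Length
import Groth.Agent.Lib.CycLimit.Basic

/-!
Flat pullback of principal divisors.
-/

set_option autoImplicit false
universe u

open CategoryTheory AlgebraicGeometry IsLocalRing GrothLib.CycFlat

namespace GrothLib.CycDiv

section Points

variable {X Y : Scheme.{u}} (f : X ⟶ Y)

theorem fromSpecStalk_primeOf {x ξ : X} (h : ξ ⤳ x) :
    X.fromSpecStalk x ⟨primeOf h, inferInstance⟩ = ξ := by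
  have e := GrothLib.CycBasic.fromSpecStalk_comap_closedPoint (X := X) h
  rwa [show (⟨primeOf h, inferInstance⟩ : PrimeSpectrum (X.presheaf.stalk x)) = _ from
    PrimeSpectrum.ext (GrothLib.CycBasic.ker_specMap h)]

theorem primeOf_fromSpecStalk {x : X} (Q : PrimeSpectrum (X.presheaf.stalk x))
    (h : X.fromSpecStalk x Q ⤳ x) : primeOf h = Q.asIdeal :=
  congrArg PrimeSpectrum.asIdeal ((X.fromSpecStalk x).isEmbedding.injective (fromSpecStalk_primeOf h))

theorem primeOf_le_iff {x ξ ξ' : X} (h : ξ ⤳ x) (h' : ξ' ⤳ x) : primeOf h ≤ primeOf h' ↔ ξ ⤳ ξ' := by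
  conv_rhs => rw [← fromSpecStalk_primeOf h, ← fromSpecStalk_primeOf h']
  exact GrothLib.CycBasic.le_iff_specializes (P := ⟨primeOf h, inferInstance⟩)
    (Q := ⟨primeOf h', inferInstance⟩)

theorem primeOf_congr {x ξ ξ' : X} (h : ξ ⤳ x) (h' : ξ' ⤳ x) (e : ξ = ξ') : primeOf h = primeOf h' := by
  subst e; rfl

theorem residueFieldMap_specMap {x ξ : X} (h : ξ ⤳ x) (a : Y.presheaf.stalk (f x)) :
    f.residueFieldMap ξ (Cyc.specMap (f x) (f ξ) (h.map f.continuous) a) =
      Cyc.specMap x ξ h ((f.stalkMap x).hom a) := by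
  have h1 := congr($(f.stalkSpecializes_stalkMap ξ x h).hom a)
  have h2 := congr($(Scheme.residue_residueFieldMap f ξ).hom
    ((Y.presheaf.stalkSpecializes (h.map f.continuous)).hom a))
  simp only [CommRingCat.hom_comp, RingHom.comp_apply] at h1 h2
  exact h2.trans (congrArg (X.residue ξ).hom h1)

theorem comap_primeOf {x ξ : X} (h : ξ ⤳ x) :
    (primeOf h).comap (f.stalkMap x).hom = primeOf (h.map f.continuous) := by
  ext a
  show Cyc.specMap x ξ h ((f.stalkMap x).hom a) = 0 ↔ Cyc.specMap (f x) (f ξ) (h.map f.continuous) a = 0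
  rw [← residueFieldMap_specMap f h a]
  exact map_eq_zero_iff _ (f.residueFieldMap ξ).hom.injective

theorem specMap_congr {x ξ ξ' : X} (h : ξ ⤳ x) (h' : ξ' ⤳ x) (e : ξ = ξ') (a : X.presheaf.stalk x) :
    (X.residueFieldCongr e).hom (Cyc.specMap x ξ h a) = Cyc.specMap x ξ' h' a := by
  subst e
  rw [Scheme.residueFieldCongr_refl]
  rfl

theorem length_localized_eq_fibLength [IsLocallyNoetherian X] {x ξ : X} (h : ξ ⤳ x) :
    Module.length (Localization.AtPrime (primeOf h)) (LocalizedModule (primeOf h).primeCompl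
      (X.presheaf.stalk x ⧸ (primeOf (h.map f.continuous)).map (f.stalkMap x).hom)) = fibLength f ξ := by
  letI := (X.presheaf.stalkSpecializes h).hom.toAlgebra
  letI := (Y.presheaf.stalkSpecializes (h.map f.continuous)).hom.toAlgebra
  haveI := isLocalization_stalkSpecializes h
  haveI := isLocalization_stalkSpecializes (h.map f.continuous)
  rw [length_localized_quot (primeOf h) (X.presheaf.stalk ξ)]
  rw [Ideal.map_map, fibLength]
  have h1 : (algebraMap (X.presheaf.stalk x) (X.presheaf.stalk ξ)).comp (f.stalkMap x).hom =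
      (f.stalkMap ξ).hom.comp (algebraMap (Y.presheaf.stalk (f x)) (Y.presheaf.stalk (f ξ))) := by
    exact congrArg CommRingCat.Hom.hom (f.stalkSpecializes_stalkMap ξ x h).symm
  rw [h1, ← Ideal.map_map, IsLocalization.AtPrime.map_eq_maximalIdeal (primeOf (h.map f.continuous))]

theorem fibLength_ne_top [IsLocallyNoetherian X] {x : X} (hx : MaxFib f x) : fibLength f x ≠ ⊤ :=
  fun h => GrothLib.CycLimit.fibLength_toNat_ne_zero f x hx (by
    show (fibLength f x).toNat = 0
    rw [h]; rfl)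

end Points

section Main

variable {X Y : Scheme.{u}} [IsLocallyNoetherian X] [IsLocallyNoetherian Y] (f : X ⟶ Y) [Flat f]
  {δX : X → ℤ} {δY : Y → ℤ} (hδX : Cyc.IsDimFun X δX) (hδY : Cyc.IsDimFun Y δY) {c : ℤ}
  (hc : ∀ x, MaxFib f x → δX x = δY (f x) + c)

variable {x : X} {η : Y} (hη : η ⤳ f x) (hd : δY (f x) + 1 = δY η) (hx : MaxFib f x)

include hδX hδY hc hd hx in
theorem above_spec (Q : PrimeSpectrum (X.presheaf.stalk x))
    (hQ : (primeOf hη).map (f.stalkMap x).hom ≤ Q.asIdeal) (hne : Q.asIdeal ≠ maximalIdeal (X.presheaf.stalk x)) :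
    f (X.fromSpecStalk x Q) = η ∧ MaxFib f (X.fromSpecStalk x Q) := by
  have hz := GrothLib.CycBasic.specializes_fromSpecStalk Q
  have hzx : X.fromSpecStalk x Q ≠ x := fun e => hne (congrArg PrimeSpectrum.asIdeal
    ((X.fromSpecStalk x).isEmbedding.injective (e.trans Scheme.fromSpecStalk_closedPoint.symm) :
      Q = closedPoint (X.presheaf.stalk x)))
  have h1 : η ⤳ f (X.fromSpecStalk x Q) := by
    refine (primeOf_le_iff hη (hz.map f.continuous)).1 ?_
    rw [← comap_primeOf f hz, ← Ideal.map_le_iff_le_comap, primeOf_fromSpecStalk Q hz]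
    exact hQ
  have hne2 : f (X.fromSpecStalk x Q) ≠ f x := fun e => hzx (hx _ e hz)
  have hfη : f (X.fromSpecStalk x Q) = η := by
    by_contra hne3
    have a1 := (hδY _ _ h1 (Ne.symm hne3)).1
    have a2 := (hδY _ _ (hz.map f.continuous) hne2).1
    omega
  refine ⟨hfη, ((eq_add_iff_maxFib f hδX hc _).1).1 ?_⟩
  have a1 := (eq_add_iff_maxFib f hδX hc (X.fromSpecStalk x Q)).2
  have a2 := (hδX _ _ hz hzx).1
  have a3 := hc x hx
  rw [hfη] at a1 ⊢
  omega

/-- The points of the fibre over `η` generalizing `x`, as primes of the local ring. -/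
def Above : Set (PrimeSpectrum (X.presheaf.stalk x)) :=
  {Q | (primeOf hη).map (f.stalkMap x).hom ≤ Q.asIdeal ∧ Q.asIdeal ≠ maximalIdeal (X.presheaf.stalk x)}

include hd in
theorem ne_of_over {ξ : X} (he : f ξ = η) : ξ ≠ x := by
  rintro rfl
  rw [he] at hd
  omega

include hd in
theorem primeOf_mem_above {ξ : X} (h : ξ ⤳ x) (he : f ξ = η) :
    (⟨primeOf h, inferInstance⟩ : PrimeSpectrum (X.presheaf.stalk x)) ∈ Above f hη := by
  refine ⟨?_, fun hmax => ne_of_over (δY := δY) f hd he ?_⟩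
  · show (primeOf hη).map (f.stalkMap x).hom ≤ primeOf h
    rw [Ideal.map_le_iff_le_comap, comap_primeOf, primeOf_congr (h.map f.continuous) hη he]
  · rw [← fromSpecStalk_primeOf h, show (⟨primeOf h, inferInstance⟩ : PrimeSpectrum (X.presheaf.stalk x)) =
      closedPoint (X.presheaf.stalk x) from PrimeSpectrum.ext hmax, Scheme.fromSpecStalk_closedPoint]

include hδX hδY hc hd hx in
theorem above_minimal (Q : PrimeSpectrum (X.presheaf.stalk x)) (hQ : Q ∈ Above f hη) :
    Q.asIdeal.comap (f.stalkMap x).hom = primeOf hη ∧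
      ∀ Q' : PrimeSpectrum (X.presheaf.stalk x),
        (primeOf hη).map (f.stalkMap x).hom ≤ Q'.asIdeal → Q' ≤ Q → Q' = Q := by
  obtain ⟨he, hm⟩ := above_spec f hδX hδY hc hη hd hx Q hQ.1 hQ.2
  have hz := GrothLib.CycBasic.specializes_fromSpecStalk Q
  constructor
  · rw [← primeOf_fromSpecStalk Q hz, comap_primeOf, primeOf_congr (hz.map f.continuous) hη he]
  · intro Q' hQ' hle
    have hne' : Q'.asIdeal ≠ maximalIdeal (X.presheaf.stalk x) := fun h =>
      hQ.2 (le_antisymm (le_maximalIdeal Q.isPrime.ne_top) (h ▸ hle))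
    obtain ⟨he', -⟩ := above_spec f hδX hδY hc hη hd hx Q' hQ' hne'
    exact (X.fromSpecStalk x).isEmbedding.injective
      (hm _ (he'.trans he.symm) (GrothLib.CycBasic.le_iff_specializes.1 hle))

include hδX hδY hc hd hx in
theorem finite_above : (Above f hη).Finite := by
  have : ∀ Q ∈ Above f hη, Q.asIdeal ∈ ((primeOf hη).map (f.stalkMap x).hom).minimalPrimes := by
    intro Q hQ
    refine ⟨⟨Q.isPrime, hQ.1⟩, fun P hP hPQ => ?_⟩
    exact ((congrArg PrimeSpectrum.asIdeal
      ((above_minimal f hδX hδY hc hη hd hx Q hQ).2 ⟨P, hP.1⟩ hP.2 hPQ)) : P = Q.asIdeal).ge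
  exact ((Ideal.finite_minimalPrimes_of_isNoetherianRing _ _).preimage
    (fun _ _ _ _ e => PrimeSpectrum.ext e)).subset this

include hδX hδY hc hd hx in
theorem ord_ne_top_above {Q : PrimeSpectrum (X.presheaf.stalk x)} (hQ : Q ∈ Above f hη)
    {a : Y.presheaf.stalk (f x)} (ha : a ∉ primeOf hη) :
    Ring.ord (X.presheaf.stalk x ⧸ Q.asIdeal) (Ideal.Quotient.mk Q.asIdeal ((f.stalkMap x).hom a)) ≠ ⊤ ∧
      Module.length (Localization.AtPrime Q.asIdeal) (LocalizedModule Q.asIdeal.primeCompl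
        (X.presheaf.stalk x ⧸ (primeOf hη).map (f.stalkMap x).hom)) =
        fibLength f (X.fromSpecStalk x Q) := by
  have hz := GrothLib.CycBasic.specializes_fromSpecStalk Q
  obtain ⟨he, hm⟩ := above_spec f hδX hδY hc hη hd hx Q hQ.1 hQ.2
  have a1 := hc _ hm
  rw [he] at a1
  have a3 := hc x hx
  have e := primeOf_fromSpecStalk Q hz
  constructor
  · haveI : Ring.KrullDimLE 1 (X.presheaf.stalk x ⧸ Q.asIdeal) := by
      refine Ring.krullDimLE_iff.2 ?_
      rw [← ringKrullDim_eq_of_ringEquiv (Ideal.quotEquivOfEq e),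
        GrothLib.CycBasic.ringKrullDim_locQuot hδX x _ hz,
        show (δX (X.fromSpecStalk x Q) - δX x).toNat = 1 from by omega]
    refine Ring.ord_ne_top (mem_nonZeroDivisors_of_ne_zero fun h => ha ?_)
    rw [← (above_minimal f hδX hδY hc hη hd hx Q hQ).1]
    exact Ideal.mem_comap.2 (Ideal.Quotient.eq_zero_iff_mem.1 h)
  · have key : ∀ (Q' : Ideal (X.presheaf.stalk x)) [Q'.IsPrime] (P' : Ideal (Y.presheaf.stalk (f x))),
        primeOf hz = Q' → primeOf (hz.map f.continuous) = P' →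
        Module.length (Localization.AtPrime Q') (LocalizedModule Q'.primeCompl
          (X.presheaf.stalk x ⧸ P'.map (f.stalkMap x).hom)) = fibLength f (X.fromSpecStalk x Q) := by
      rintro Q' _ P' rfl rfl
      exact length_localized_eq_fibLength f hz
    exact key _ _ e (primeOf_congr _ _ he)

open Classical in
include hδX hδY hc hd hx in
theorem ord_mul_fibLength_eq_sum {a : Y.presheaf.stalk (f x)} (ha : a ∉ primeOf hη) :
    ((Ring.ord (Cyc.LocQuot (f x) η hη) (Ideal.Quotient.mk _ a)).toNat : ℤ) * (fibLength f x).toNat =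
      ∑ Q ∈ (finite_above f hδX hδY hc hη hd hx).toFinset,
        ((Ring.ord (X.presheaf.stalk x ⧸ Q.asIdeal)
          (Ideal.Quotient.mk Q.asIdeal ((f.stalkMap x).hom a))).toNat : ℤ) *
          (fibLength f (X.fromSpecStalk x Q)).toNat := by
  letI := (f.stalkMap x).hom.toAlgebra
  haveI : Module.Flat (Y.presheaf.stalk (f x)) (X.presheaf.stalk x) := Flat.stalkMap f x
  haveI : IsLocalHom (algebraMap (Y.presheaf.stalk (f x)) (X.presheaf.stalk x)) :=
    inferInstanceAs (IsLocalHom (f.stalkMap x).hom)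
  have h := length_mul_eq_finsum (B := X.presheaf.stalk x) (primeOf hη) ha
    fun Q hQ hne => above_minimal f hδX hδY hc hη hd hx Q ⟨hQ, hne⟩
  have hl := (length_map_eq_mul f x (primeOf hη ⊔ Ideal.span {a})).symm.trans h
  rw [finsum_cond_eq_sum_of_cond_iff (p := fun Q : PrimeSpectrum (X.presheaf.stalk x) =>
    (primeOf hη).map (algebraMap (Y.presheaf.stalk (f x)) (X.presheaf.stalk x)) ≤ Q.asIdeal ∧
      Q.asIdeal ≠ maximalIdeal (X.presheaf.stalk x)) (t := (finite_above f hδX hδY hc hη hd hx).toFinset) _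
    (fun {Q} _ => ((finite_above f hδX hδY hc hη hd hx).mem_toFinset (a := Q)).symm)] at hl
  rw [← ord_mk] at hl
  have hl' := congrArg ENat.toNat hl
  rw [ENat.toNat_mul] at hl'
  rw [← Nat.cast_mul]
  refine (congrArg (Nat.cast : ℕ → ℤ) hl').trans ?_
  have hcongr : ∀ Q ∈ (finite_above f hδX hδY hc hη hd hx).toFinset,
      Ring.ord (X.presheaf.stalk x ⧸ Q.asIdeal)
          (Ideal.Quotient.mk Q.asIdeal (algebraMap (Y.presheaf.stalk (f x)) (X.presheaf.stalk x) a)) *
        Module.length (Localization.AtPrime Q.asIdeal) (LocalizedModule Q.asIdeal.primeCompl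
          (X.presheaf.stalk x ⧸ (primeOf hη).map (algebraMap (Y.presheaf.stalk (f x)) (X.presheaf.stalk x)))) =
      (((Ring.ord (X.presheaf.stalk x ⧸ Q.asIdeal)
          (Ideal.Quotient.mk Q.asIdeal ((f.stalkMap x).hom a))).toNat *
          (fibLength f (X.fromSpecStalk x Q)).toNat : ℕ) : ℕ∞) := by
    intro Q hQ
    rw [Set.Finite.mem_toFinset] at hQ
    obtain ⟨h1, h2⟩ := ord_ne_top_above f hδX hδY hc hη hd hx hQ ha
    have h3 := fibLength_ne_top f (above_spec f hδX hδY hc hη hd hx Q hQ.1 hQ.2).2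
    rw [Nat.cast_mul, ENat.natCast_toNat h1, ENat.natCast_toNat h3, ← h2]
    rfl
  rw [Finset.sum_congr rfl hcongr, ← Nat.cast_sum, ENat.toNat_coe, Nat.cast_sum]
  simp only [Nat.cast_mul]

/-- The rational function pulled back to a point over `η`. -/
noncomputable def pullVal (g : Y.residueField η) (ξ : X) (e : f ξ = η) : X.residueField ξ :=
  f.residueFieldMap ξ ((Y.residueFieldCongr e.symm).hom g)

omit [IsLocallyNoetherian X] [IsLocallyNoetherian Y] [Flat f] in
theorem pullVal_mul_specMap {ξ : X} (h : ξ ⤳ x) (e : f ξ = η) {g : Y.residueField η}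
    {a b : Y.presheaf.stalk (f x)} (hg : g * Cyc.specMap (f x) η hη b = Cyc.specMap (f x) η hη a) :
    pullVal f g ξ e * Cyc.specMap x ξ h ((f.stalkMap x).hom b) = Cyc.specMap x ξ h ((f.stalkMap x).hom a) := by
  rw [pullVal, ← residueFieldMap_specMap, ← residueFieldMap_specMap,
    ← specMap_congr hη (h.map f.continuous) e.symm b, ← specMap_congr hη (h.map f.continuous) e.symm a,
    ← map_mul, ← map_mul, hg]

open Classical in
include hδX hδY hc in
/-- **Flat pullback of a principal divisor**, pointwise. -/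
theorem pullFun_divFun (η : Y) (g : Y.residueField η) (hg : g ≠ 0) (x : X) :
    Cyc.pullFun f δX δY c (Cyc.divFun δY η g) x =
      ∑ᶠ ξ : {ξ : X // MaxFib f ξ ∧ f ξ = η},
        ((fibLength f ξ.1).toNat : ℤ) * Cyc.divFun δX ξ.1 (pullVal f g ξ.1 ξ.2.2) x := by
  have key := eq_add_iff_maxFib f hδX hc x
  rw [pullFun_apply]
  by_cases hη : η ⤳ f x
  swap
  · rw [finsum_eq_zero_of_forall_eq_zero fun ξ => ?_]
    · split_ifs
      · rw [Cyc.divFun, dif_neg fun h => hη h.1, zero_mul]
      · rfl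
    · rw [Cyc.divFun, dif_neg fun h => hη (ξ.2.2 ▸ h.1.map f.continuous), mul_zero]
  obtain ⟨a, b, hb, hab⟩ := exists_frac hη g
  have ha : a ∉ primeOf hη := fun h => by
    rw [RingHom.mem_ker.1 h, mul_eq_zero] at hab
    exact hab.elim hg hb
  by_cases hd : δY (f x) + 1 = δY η
  swap
  · have lhs : (if δX x = δY (f x) + c then Cyc.divFun δY η g (f x) * ((fibLength f x).toNat : ℤ) else 0) = 0 := by
      split_ifs
      · rw [Cyc.divFun, dif_neg fun h => hd h.2, zero_mul]
      · rfl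
    rw [lhs, finsum_eq_zero_of_forall_eq_zero fun ξ => ?_]
    by_cases h : ξ.1 ⤳ x ∧ δX x + 1 = δX ξ.1
    swap
    · rw [Cyc.divFun, dif_neg h, mul_zero]
    have a1 := hc _ ξ.2.1
    rw [ξ.2.2] at a1
    have a2 := key.2
    have a3 := GrothLib.CycBasic.delta_le hδY hη
    have a4 : δY η = δY (f x) := by omega
    have hfx : η = f x := by
      by_contra hne
      have := (hδY _ _ hη hne).1
      omega
    rw [Cyc.divFun, dif_pos h]
    subst hfx
    have hPmax : primeOf hη = maximalIdeal (Y.presheaf.stalk (f x)) :=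
      congrArg PrimeSpectrum.asIdeal (((Y.fromSpecStalk (f x)).isEmbedding.injective
        ((fromSpecStalk_primeOf hη).trans Scheme.fromSpecStalk_closedPoint.symm)) :
          (⟨primeOf hη, inferInstance⟩ : PrimeSpectrum (Y.presheaf.stalk (f x))) =
            closedPoint (Y.presheaf.stalk (f x)))
    rw [hPmax, mem_maximalIdeal, mem_nonunits_iff, not_not] at ha hb
    have hab' := pullVal_mul_specMap f hη h.1 ξ.2.2 hab
    have e1 : pullVal f g ξ.1 ξ.2.2 =
        Cyc.specMap x ξ.1 h.1 ((f.stalkMap x).hom (a * ↑hb.unit⁻¹)) := by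
      rw [map_mul (f.stalkMap x).hom, map_mul, ← hab', mul_assoc, ← map_mul, ← map_mul,
        IsUnit.mul_val_inv, map_one, map_one, mul_one]
    rw [ordAt_eq_zero_of_isUnit hδX h.1 h.2 ((ha.mul (Units.isUnit _)).map _) e1, mul_zero]
  by_cases hx : MaxFib f x
  swap
  · rw [if_neg fun h => hx (key.1.1 h), finsum_eq_zero_of_forall_eq_zero fun ξ => ?_]
    by_cases h : ξ.1 ⤳ x ∧ δX x + 1 = δX ξ.1
    · have a1 := hc _ ξ.2.1
      rw [ξ.2.2] at a1
      exact absurd (key.1.1 (by omega)) hx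
    · rw [Cyc.divFun, dif_neg h, mul_zero]
  have hxd := hc x hx
  rw [if_pos hxd, Cyc.divFun, dif_pos ⟨hη, hd⟩, ordAt_eq_sub hδY hη hd ha hb hab, sub_mul,
    ord_mul_fibLength_eq_sum f hδX hδY hc hη hd hx ha, ord_mul_fibLength_eq_sum f hδX hδY hc hη hd hx hb,
    ← Finset.sum_sub_distrib]
  let T := (finite_above f hδX hδY hc hη hd hx).toFinset
  have hT : ∀ Q : {Q // Q ∈ T}, f (X.fromSpecStalk x Q.1) = η ∧ MaxFib f (X.fromSpecStalk x Q.1) :=
    fun Q => above_spec f hδX hδY hc hη hd hx Q.1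
      ((finite_above f hδX hδY hc hη hd hx).mem_toFinset.1 Q.2).1
      ((finite_above f hδX hδY hc hη hd hx).mem_toFinset.1 Q.2).2
  let σ : {Q // Q ∈ T} → {ξ : X // MaxFib f ξ ∧ f ξ = η} := fun Q =>
    ⟨X.fromSpecStalk x Q.1, (hT Q).2, (hT Q).1⟩
  have hσ : ∀ Q Q', σ Q = σ Q' → Q = Q' := fun Q Q' e => by
    simp only [σ, Subtype.mk.injEq] at e
    exact Subtype.ext ((X.fromSpecStalk x).isEmbedding.injective e)
  rw [finsum_eq_sum_of_support_subset _ (s := T.attach.image σ) ?_,
    Finset.sum_image (fun Q _ Q' _ => hσ Q Q'), ← Finset.sum_attach T]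
  · refine Finset.sum_congr rfl fun Q _ => ?_
    have hz := GrothLib.CycBasic.specializes_fromSpecStalk Q.1
    have a1 := hc _ (hT Q).2
    rw [(hT Q).1] at a1
    have hdz : δX x + 1 = δX (X.fromSpecStalk x Q.1) := by omega
    show _ = ((fibLength f (X.fromSpecStalk x Q.1)).toNat : ℤ) *
      Cyc.divFun δX (X.fromSpecStalk x Q.1) (pullVal f g (X.fromSpecStalk x Q.1) (hT Q).1) x
    rw [Cyc.divFun, dif_pos ⟨hz, hdz⟩]
    have hnot : ∀ {d : Y.presheaf.stalk (f x)}, d ∉ primeOf hη → (f.stalkMap x).hom d ∉ primeOf hz :=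
      fun {d} hd' hm => hd' (by
        rw [← primeOf_congr (hz.map f.continuous) hη (hT Q).1, ← comap_primeOf f hz]
        exact hm)
    rw [ordAt_eq_sub hδX hz hdz (hnot ha) (hnot hb) (pullVal_mul_specMap f hη hz (hT Q).1 hab)]
    have hord : ∀ (Q' : Ideal (X.presheaf.stalk x)), primeOf hz = Q' → ∀ d : X.presheaf.stalk x,
        Ring.ord (Cyc.LocQuot x (X.fromSpecStalk x Q.1) hz) (Ideal.Quotient.mk _ d) =
          Ring.ord (X.presheaf.stalk x ⧸ Q') (Ideal.Quotient.mk Q' d) := by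
      rintro Q' rfl d; rfl
    rw [hord _ (primeOf_fromSpecStalk Q.1 hz), hord _ (primeOf_fromSpecStalk Q.1 hz)]
    ring
  · intro ξ hξ
    rw [Function.mem_support] at hξ
    have h : ξ.1 ⤳ x := by
      by_contra h
      exact hξ (by rw [Cyc.divFun, dif_neg fun h' => h h'.1, mul_zero])
    simp only [Finset.coe_image, Set.mem_image, Finset.mem_coe, Finset.mem_attach, true_and]
    refine ⟨⟨⟨primeOf h, inferInstance⟩, (finite_above f hδX hδY hc hη hd hx).mem_toFinset.2
      (primeOf_mem_above f hη hd h ξ.2.2)⟩, Subtype.ext ?_⟩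
    exact fromSpecStalk_primeOf h

end Main

end GrothLib.CycDiv
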