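import Groth.Agent.Lib.CycDiv.Support

/-!
Rational functions descend to a stage of an affine limit.
-/

set_option autoImplicit false
set_option backward.isDefEq.respectTransparency false
universe u

open CategoryTheory Limits AlgebraicGeometry GrothLib.CycFlat IsLocalRing

namespace GrothLib.CycDiv

variable {I : Type u} [SmallCategory I] [IsCofiltered I] (D : I ⥤ Scheme.{u}) (c : Cone D)
  (hc : IsLimit c) [∀ (i j : I) (f : i ⟶ j), IsAffineHom (D.map f)]

theorem range_stalkMap_comp {X Y Z : Scheme.{u}} (g : X ⟶ Y) (h : Y ⟶ Z) (x : X) (l : X ⟶ Z)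
    (e : g ≫ h = l) (b : Z.presheaf.stalk (l x)) :
    ∃ b' : Y.presheaf.stalk (g x), (g.stalkMap x).hom b' = (l.stalkMap x).hom b := by
  subst e
  refine ⟨(h.stalkMap (g x)).hom b, ?_⟩
  rw [Scheme.Hom.stalkMap_comp]
  rfl

include hc in
/-- A stage where a point is alone in its fibre with trivial length and a given function descends. -/
theorem exists_good_stage [IsNoetherian c.pt] [∀ (i j : I) (f : i ⟶ j), Flat (D.map f)]
    [∀ i, Flat (c.π.app i)] (j₀ : I) (w : c.pt) (v : c.pt.residueField w) :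
    ∃ (J : I) (_ : J ⟶ j₀), ∀ (j : I) (_ : j ⟶ J), MaxFib (c.π.app j) w ∧ fibLength (c.π.app j) w = 1 ∧
      (∀ z, MaxFib (c.π.app j) z → c.π.app j z = c.π.app j w → z = w) ∧
      ∃ g : (D.obj j).residueField (c.π.app j w), (c.π.app j).residueFieldMap w g = v := by
  obtain ⟨a, rfl⟩ := c.pt.residue_surjective w v
  obtain ⟨J₀, f₀, b, hb⟩ := GrothLib.CycLimit.exists_stalkMap_eq D c hc j₀ w a
  obtain ⟨J₁, f₁, h₁⟩ := GrothLib.CycLimit.exists_map_eq_maximal D c hc J₀ w
  have hT := GrothLib.CycLimit.finite_maxFib (X := c.pt) (c.π.app J₁) (c.π.app J₁ w)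
  have sep : ∀ T : Finset ↥c.pt, ∃ (J : I) (_ : J ⟶ J₁), ∀ z ∈ T, z ≠ w →
      ∀ (j : I) (_ : j ⟶ J), c.π.app j z ≠ c.π.app j w := by
    intro T
    classical
    induction T using Finset.induction_on with
    | empty => exact ⟨J₁, 𝟙 _, fun z hz => absurd hz (Finset.notMem_empty z)⟩
    | insert z T _ ih =>
      obtain ⟨J, fJ, hJ⟩ := ih
      by_cases hzw : z = w
      · refine ⟨J, fJ, fun y hy hne => ?_⟩
        exact hJ y (Finset.mem_of_mem_insert_of_ne hy (hzw ▸ hne)) hne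
      · obtain ⟨k', hk'⟩ : ∃ k', c.π.app k' z ≠ c.π.app k' w := by
          by_contra! h
          exact hzw (GrothLib.LimStage.eq_of_forall_π_eq D c hc h)
        obtain ⟨l, g, g', -⟩ := IsCofilteredOrEmpty.cone_objs J k'
        refine ⟨l, g ≫ fJ, fun y hy hne j f => ?_⟩
        rcases Finset.mem_insert.1 hy with rfl | hy
        · intro e
          refine hk' ?_
          rw [← c.w (f ≫ g'), Scheme.Hom.comp_apply, Scheme.Hom.comp_apply]
          exact congrArg (D.map (f ≫ g')) e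
        · exact hJ y hy hne j (f ≫ g)
  obtain ⟨J, fJ, hJ⟩ := sep hT.toFinset
  refine ⟨J, fJ ≫ f₁ ≫ f₀, fun j f => ?_⟩
  have hmap := h₁ j (f ≫ fJ)
  have hmax := GrothLib.CycLimit.maxFib_of_map_eq (c.π.app j) w hmap
  refine ⟨hmax, ?_, fun z hz hzw => by_contra fun hne => ?_, ?_⟩
  · rw [fibLength, hmap, Module.length_eq_one_iff, isSimpleModule_iff_quot_maximal]
    exact ⟨_, maximalIdeal.isMaximal _, ⟨LinearEquiv.refl _ _⟩⟩
  · refine hJ z (hT.mem_toFinset.2 ?_) hne j f hzw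
    have e : c.π.app J₁ z = c.π.app J₁ w := by
      rw [← c.w (f ≫ fJ), Scheme.Hom.comp_apply, Scheme.Hom.comp_apply]
      exact congrArg (D.map (f ≫ fJ)) hzw
    refine ⟨e, ?_⟩
    have hw1 : MaxFib (c.π.app j ≫ D.map (f ≫ fJ)) w := by
      rw [c.w]; exact GrothLib.CycLimit.maxFib_of_map_eq _ w (h₁ J₁ (𝟙 _))
    have h2 := ((maxFib_comp_iff (c.π.app j) (D.map (f ≫ fJ)) w).1 hw1).2
    rw [← hzw] at h2
    have h3 := (maxFib_comp_iff (c.π.app j) (D.map (f ≫ fJ)) z).2 ⟨hz, h2⟩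
    rwa [c.w] at h3
  · obtain ⟨b', hb'⟩ := range_stalkMap_comp (c.π.app j) (D.map ((f ≫ fJ) ≫ f₁)) w (c.π.app J₀)
      (c.w _) b
    refine ⟨(D.obj j).residue _ b', ?_⟩
    have h2 := congr($(Scheme.residue_residueFieldMap (c.π.app j) w).hom b')
    simp only [CommRingCat.hom_comp, RingHom.comp_apply] at h2
    exact h2.trans (congrArg _ (hb'.trans hb))

end GrothLib.CycDiv
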